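import Groth.Agent.DeRhamBasic.Map
import Mathlib.LinearAlgebra.ExteriorAlgebra.Grading
import Mathlib.RingTheory.Kaehler.TensorProduct

/-!
# Exterior powers and the de Rham complex under base change
-/

set_option linter.style.haveILetI false

universe u

open exteriorPower TensorProduct

namespace DeRhamBasic

section General

variable {A B M N : Type u} [CommRing A] [CommRing B] [Algebra A B] [AddCommGroup M] [Module A M]
  [AddCommGroup N] [Module B N]

lemma anticomm (e : B ⊗[A] M) (e' : B ⊗[A] M) :
    (LinearMap.baseChange B (ExteriorAlgebra.ι A (M := M))) e * (LinearMap.baseChange B (ExteriorAlgebra.ι A (M := M))) e' +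
      (LinearMap.baseChange B (ExteriorAlgebra.ι A (M := M))) e' * (LinearMap.baseChange B (ExteriorAlgebra.ι A (M := M))) e = 0 := by
  induction e with
  | zero => simp
  | add a b ha hb =>
    rw [map_add, add_mul, mul_add, add_add_add_comm, ha, hb, add_zero]
  | tmul b m =>
    induction e' with
    | zero => simp
    | add a c ha hc =>
      rw [map_add, add_mul, mul_add, add_add_add_comm, ha, hc, add_zero]
    | tmul b' m' =>
      simp only [LinearMap.baseChange_tmul, Algebra.TensorProduct.tmul_mul_tmul]
      rw [mul_comm b' b, ← TensorProduct.tmul_add, ExteriorAlgebra.ι_add_mul_swap, TensorProduct.tmul_zero]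

lemma baseChange_ι_sq (e : B ⊗[A] M) :
    (LinearMap.baseChange B (ExteriorAlgebra.ι A (M := M))) e * (LinearMap.baseChange B (ExteriorAlgebra.ι A (M := M))) e = 0 := by
  induction e with
  | zero => simp
  | tmul b m => simp [LinearMap.baseChange_tmul, Algebra.TensorProduct.tmul_mul_tmul, ExteriorAlgebra.ι_sq_zero]
  | add a c ha hc =>
    rw [map_add, add_mul, mul_add, mul_add, ha, hc, zero_add, add_zero, anticomm]

/-- The exterior power commutes with base change. -/
theorem bijective_of_baseChange (hn : M → N) (e : N ≃ₗ[B] B ⊗[A] M) (he : ∀ m, e (hn m) = 1 ⊗ₜ m) (p : ℕ)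
    (F : B ⊗[A] ↥(⋀[A]^p M) →+ ↥(⋀[B]^p N))
    (hF : ∀ (b : B) (m : Fin p → M), F (b ⊗ₜ ιMulti A p m) = b • ιMulti B p (fun i => hn (m i))) :
    Function.Bijective F := by
  classical
  let g : N →ₗ[B] B ⊗[A] ExteriorAlgebra A M :=
    (LinearMap.baseChange B (ExteriorAlgebra.ι A (M := M))) ∘ₗ e.toLinearMap
  let G : ExteriorAlgebra B N →ₐ[B] B ⊗[A] ExteriorAlgebra A M :=
    ExteriorAlgebra.lift B ⟨g, fun n => baseChange_ι_sq (e n)⟩
  let i : ↥(⋀[A]^p M) →ₗ[A] ExteriorAlgebra A M := (⋀[A]^p M).subtype
  have hG : ∀ z, G (F z : ExteriorAlgebra B N) = i.baseChange B z := by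
    intro z
    induction z with
    | zero => simp
    | add a b ha hb => rw [map_add, map_add, Submodule.coe_add, map_add, ha, hb]
    | tmul b x =>
      have hx : x ∈ Submodule.span A (Set.range (ιMulti A p (M := M))) := by rw [ιMulti_span]; trivial
      induction hx using Submodule.span_induction generalizing b with
      | mem y hy =>
        obtain ⟨m, rfl⟩ := hy
        rw [hF, SetLike.val_smul, map_smul, LinearMap.baseChange_tmul, exteriorPower.ιMulti_apply_coe,
          ExteriorAlgebra.ιMulti_apply, map_list_prod, List.map_ofFn]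
        have hi : i (ιMulti A p m) = ExteriorAlgebra.ιMulti A p m := exteriorPower.ιMulti_apply_coe ..
        have hcomp : (G ∘ fun j => ExteriorAlgebra.ι B (hn (m j))) =
            (Algebra.TensorProduct.includeRight (R := A) (A := B) (B := ExteriorAlgebra A M)) ∘
              fun j => ExteriorAlgebra.ι A (m j) := funext fun j => by
          simp [G, g, he, LinearMap.baseChange_tmul]
        rw [hi, hcomp, ← List.map_ofFn, ← map_list_prod, ExteriorAlgebra.ιMulti_apply,
          Algebra.TensorProduct.includeRight_apply, TensorProduct.smul_tmul', smul_eq_mul, mul_one]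
      | zero => simp
      | add y y' _ _ h1 h2 =>
        rw [TensorProduct.tmul_add, map_add, map_add, Submodule.coe_add, map_add, h1, h2]
      | smul c y _ h1 =>
        rw [← TensorProduct.smul_tmul, h1]
  constructor
  · have hinj : Function.Injective (i.baseChange B) := by
      let π : ExteriorAlgebra A M →ₗ[A] ↥(⋀[A]^p M) :=
        DirectSum.component A ℕ (fun j => ↥(⋀[A]^j M)) p ∘ₗ
          (DirectSum.decomposeLinearEquiv (fun j : ℕ => ⋀[A]^j M)).toLinearMap
      have hπ : π ∘ₗ i = LinearMap.id := LinearMap.ext fun x => by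
        simp only [π, LinearMap.comp_apply, LinearEquiv.coe_coe, i, Submodule.coe_subtype,
          DirectSum.decomposeLinearEquiv_apply, LinearMap.id_apply]
        rw [DirectSum.decompose_coe]
        exact DirectSum.of_eq_same (β := fun j : ℕ => ↥(⋀[A]^j M)) p x
      intro a b hab
      have h := congrArg (π.baseChange B) hab
      rwa [← LinearMap.comp_apply, ← LinearMap.comp_apply, ← LinearMap.baseChange_comp, hπ,
        LinearMap.baseChange_id, LinearMap.id_apply, LinearMap.id_apply] at h
    intro a b hab
    exact hinj (by rw [← hG, ← hG, hab])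
  · have hspan : Submodule.span B (Set.range hn) = ⊤ := by
      refine top_le_iff.mp fun n _ => ?_
      obtain ⟨z, rfl⟩ := e.symm.surjective n
      induction z with
      | zero => simp
      | add a b ha hb => rw [map_add]; exact Submodule.add_mem _ (ha trivial) (hb trivial)
      | tmul b m =>
        rw [show b ⊗ₜ[A] m = b • ((1 : B) ⊗ₜ[A] m) by rw [TensorProduct.smul_tmul', smul_eq_mul, mul_one],
          ← he, map_smul, LinearEquiv.symm_apply_apply]
        exact Submodule.smul_mem _ _ (Submodule.subset_span ⟨m, rfl⟩)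
    intro x
    have hx : x ∈ Submodule.span B (ιMulti B p '' {a | Set.range a ⊆ Set.range hn}) := by
      rw [ιMulti_span_of_span B p N hspan]; trivial
    suffices h : ∀ b : B, ∃ z, F z = b • x by simpa using h 1
    induction hx using Submodule.span_induction with
    | mem y hy =>
      obtain ⟨m, hm, rfl⟩ := hy
      choose a ha using fun j => hm (Set.mem_range_self j)
      intro b
      exact ⟨b ⊗ₜ ιMulti A p a, by rw [hF]; simp only [ha]⟩
    | zero => intro b; exact ⟨0, by simp⟩
    | add y z _ _ hy hz =>
      intro b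
      obtain ⟨u, hu⟩ := hy b
      obtain ⟨v, hv⟩ := hz b
      exact ⟨u + v, by rw [map_add, hu, hv, smul_add]⟩
    | smul c y _ hy => intro b; rw [smul_smul]; exact hy _

end General

section DeRham

variable (R S A B : Type u) [CommRing R] [CommRing S] [CommRing A] [CommRing B]
    [Algebra R S] [Algebra R A] [Algebra R B] [Algebra A B] [Algebra S B]
    [IsScalarTower R A B] [IsScalarTower R S B] [Algebra.IsPushout R S A B]

theorem bijective_of_isCxMap (ψ : ∀ p : ℕ, ↥(⋀[A]^p (Ω[A⁄R])) →+ ↥(⋀[B]^p (Ω[B⁄S])))
    (hψ : DeRham.IsCxMap (KaehlerDifferential.D R A) (KaehlerDifferential.D S B) (algebraMap A B) ψ)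
    (p : ℕ) (Φ : S ⊗[R] ↥(⋀[A]^p (Ω[A⁄R])) →+ ↥(⋀[B]^p (Ω[B⁄S])))
    (hΦ : ∀ (s : S) (x : ↥(⋀[A]^p (Ω[A⁄R]))), Φ (s ⊗ₜ[R] x) = s • ψ p x) :
    Function.Bijective Φ := by
  haveI : SMulCommClass S A B := ⟨fun s a b => by simp only [Algebra.smul_def]; ring⟩
  let e := (KaehlerDifferential.tensorKaehlerEquiv R S A B).symm
  let hn : Ω[A⁄R] →ₗ[A] Ω[B⁄S] := KaehlerDifferential.map R S A B
  have he : ∀ m, e (hn m) = 1 ⊗ₜ m := by
    intro m
    rw [LinearEquiv.symm_apply_eq]
    have hm : m ∈ Submodule.span A (Set.range (KaehlerDifferential.D R A)) := by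
      rw [KaehlerDifferential.span_range_derivation]; trivial
    induction hm using Submodule.span_induction with
    | mem y hy =>
      obtain ⟨a, rfl⟩ := hy
      rw [KaehlerDifferential.tensorKaehlerEquiv_tmul_D, one_smul]
      exact KaehlerDifferential.map_D ..
    | zero => simp
    | add y z _ _ h1 h2 => rw [map_add, TensorProduct.tmul_add, map_add, h1, h2]
    | smul c y _ h1 =>
      rw [map_smul, ← TensorProduct.smul_tmul, Algebra.smul_def, mul_one,
        show (algebraMap A B c) ⊗ₜ[A] y = algebraMap A B c • ((1 : B) ⊗ₜ[A] y) by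
          rw [TensorProduct.smul_tmul', smul_eq_mul, mul_one],
        map_smul, ← h1, algebraMap_smul]
  have hψ' : ψ p = (cxMap R S A B p).toAddMonoidHom := isCxMap_unique hψ (cxMap_isCxMap R S A B) p
  let F₀ : B ⊗[A] ↥(⋀[A]^p Ω[A⁄R]) →ₗ[A] ↥(⋀[B]^p Ω[B⁄S]) :=
    TensorProduct.lift (LinearMap.mk₂ A (fun b x => b • cxMap R S A B p x)
      (fun b b' x => add_smul _ _ _) (fun c b x => smul_assoc c b _)
      (fun b x y => by rw [map_add, smul_add]) (fun c b x => by rw [map_smul, smul_comm]))
  have hF₀ : Function.Bijective F₀.toAddMonoidHom :=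
    bijective_of_baseChange hn e he p F₀.toAddMonoidHom fun b m => by
      change b • cxMap R S A B p (ιMulti A p m) = _
      simp only [cxMap, alternatingMapLinearEquiv_apply_ιMulti, AlternatingMap.compLinearMap_apply]
      rfl
  have hkey : ∀ z, Φ z = F₀ ((Algebra.IsPushout.cancelBaseChangeAux R S A B _).symm z) := by
    intro z
    induction z with
    | zero => simp
    | add a b ha hb => rw [map_add, map_add, map_add, ha, hb]
    | tmul s x =>
      rw [hΦ, hψ', Algebra.IsPushout.cancelBaseChangeAux_symm_tmul]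
      exact (algebraMap_smul B s _).symm
  rw [show (Φ : _ → _) = F₀.toAddMonoidHom ∘ (Algebra.IsPushout.cancelBaseChangeAux R S A B _).symm from funext hkey]
  exact hF₀.comp (LinearEquiv.bijective _)

end DeRham

end DeRhamBasic
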