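import Groth.Prelude.Def_DeRham
import Groth.Prelude.Def_DiffOp

universe u v u'

open exteriorPower

namespace DeRhamBasic

variable {R : Type v} {A M : Type u} [CommRing R] [CommRing A] [Algebra R A]
  [AddCommGroup M] [Module A M] [Module R M] {δ : Derivation R A M}

theorem gen_induction (hs : Submodule.span A (Set.range δ) = ⊤) {p : ℕ}
    {P : ↥(⋀[A]^p M) → Prop} (h0 : P 0) (hadd : ∀ x y, P x → P y → P (x + y))
    (hgen : ∀ b₀ b, P (DeRham.gen δ p b₀ b)) (x : ↥(⋀[A]^p M)) : P x := by
  have hx : x ∈ Submodule.span A (ιMulti A p '' {a | Set.range a ⊆ Set.range δ}) := by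
    rw [ιMulti_span_of_span A p M hs]; trivial
  suffices h : ∀ a : A, P (a • x) by simpa using h 1
  induction hx using Submodule.span_induction with
  | mem y hy =>
    obtain ⟨m, hm, rfl⟩ := hy
    choose b hb using fun i => hm (Set.mem_range_self i)
    intro a
    have hmb : m = fun i => δ (b i) := funext fun i => (hb i).symm
    rw [hmb]
    exact hgen a b
  | zero => intro a; simpa using h0
  | add y z _ _ hy hz => intro a; rw [smul_add]; exact hadd _ _ (hy a) (hz a)
  | smul c y _ hy => intro a; rw [smul_smul]; exact hy _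

theorem hom_ext (hs : Submodule.span A (Set.range δ) = ⊤) {p : ℕ} {N : Type u'} [AddCommGroup N]
    {f g : ↥(⋀[A]^p M) → N} (hf : ∀ x y, f (x + y) = f x + f y)
    (hg : ∀ x y, g (x + y) = g x + g y)
    (h : ∀ b₀ b, f (DeRham.gen δ p b₀ b) = g (DeRham.gen δ p b₀ b)) : f = g := by
  have hf0 : f 0 = 0 := by simpa using hf 0 0
  have hg0 : g 0 = 0 := by simpa using hg 0 0
  funext x
  exact gen_induction hs (P := fun x => f x = g x) (by rw [hf0, hg0])
    (fun x y a b => by rw [hf, hg, a, b]) h x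

theorem iota_eq_gen {p : ℕ} (b : Fin p → A) :
    ιMulti A p (fun i => δ (b i)) = DeRham.gen δ p 1 b := (one_smul _ _).symm

theorem smul_gen {p : ℕ} (a b₀ : A) (b : Fin p → A) :
    a • DeRham.gen δ p b₀ b = DeRham.gen δ p (a * b₀) b := by rw [DeRham.gen, DeRham.gen, smul_smul]

theorem iota_cons_zero {p : ℕ} (m : Fin p → M) : ιMulti A (p + 1) (Fin.cons 0 m) = 0 :=
  AlternatingMap.map_coord_zero _ 0 (Fin.cons_zero _ _)

theorem cons_eq {p : ℕ} (b₀ : A) (b : Fin p → A) :
    (Fin.cons (δ b₀) (fun i => δ (b i)) : Fin (p + 1) → M) =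
      fun i => δ ((Fin.cons b₀ b : Fin (p + 1) → A) i) := by
  funext i; induction i using Fin.cases <;> simp

variable [IsScalarTower R A M]
  {d : ∀ p : ℕ, ↥(⋀[A]^p M) →ₗ[R] ↥(⋀[A]^(p + 1) M)}

theorem isDiff_of_isRule (hs : Submodule.span A (Set.range δ) = ⊤) (hd : DeRham.IsRule δ d) :
    DeRham.IsDiff δ d := by
  refine ⟨hd, fun p => LinearMap.ext fun x => ?_⟩
  refine gen_induction hs (P := fun x => (d (p + 1) ∘ₗ d p) x = 0) (map_zero _)
    (fun x y a b => by rw [map_add, a, b, add_zero]) (fun b₀ b => ?_) x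
  rw [LinearMap.comp_apply, hd p b₀ b, cons_eq, iota_eq_gen, hd, δ.map_one_eq_zero, iota_cons_zero]

theorem comm_smul (hs : Submodule.span A (Set.range δ) = ⊤) (hd : DeRham.IsRule δ d) (p : ℕ)
    (a c : A) (x : ↥(⋀[A]^p M)) :
    d p (a • c • x) - a • d p (c • x) = c • (d p (a • x) - a • d p x) := by
  refine gen_induction hs (P := fun x =>
    d p (a • c • x) - a • d p (c • x) = c • (d p (a • x) - a • d p x)) (by simp) ?_ ?_ x
  · intro x y hx hy
    simp only [smul_add, map_add, add_sub_add_comm, hx, hy]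
  · intro b₀ b
    simp only [smul_gen, hd p]
    have key : ∀ e : A, ιMulti A (p + 1) (Fin.cons (δ (a * e)) (fun i => δ (b i))) -
        a • ιMulti A (p + 1) (Fin.cons (δ e) (fun i => δ (b i))) =
        e • ιMulti A (p + 1) (Fin.cons (δ a) (fun i => δ (b i))) := by
      intro e
      have hadd := fun x y => (ιMulti A (p + 1) (M := M)).toMultilinearMap.cons_add
        (fun i => δ (b i)) x y
      have hsmul := fun c x => (ιMulti A (p + 1) (M := M)).toMultilinearMap.cons_smul
        (fun i => δ (b i)) c x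
      simp only [AlternatingMap.coe_multilinearMap] at hadd hsmul
      rw [δ.leibniz, hadd, hsmul, hsmul, add_sub_cancel_left]
    rw [key, key, smul_smul]

end DeRhamBasic
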