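import Groth.Agent.DeRhamBasic.Gen
import Mathlib.Algebra.Polynomial.Laurent
import Mathlib.RingTheory.Kaehler.Basic
import Mathlib.Algebra.CharZero.Defs
import Mathlib.Algebra.Field.Defs

universe u

open LaurentPolynomial exteriorPower

namespace DeRhamBasic

variable (k : Type u) [Field k]

noncomputable def eulerLin : k[T;T⁻¹] →ₗ[k] k[T;T⁻¹] where
  toFun f := AddMonoidAlgebra.ofCoeff (Finsupp.onFinset f.coeff.support
    (fun n => (n : k) * f.coeff n) fun n hn => by
      rw [Finsupp.mem_support_iff]; exact right_ne_zero_of_mul hn)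
  map_add' f g := by ext n; simp [mul_add]
  map_smul' c f := by ext n; simp [mul_left_comm]

theorem eulerLin_coeff (f : k[T;T⁻¹]) (n : ℤ) :
    (eulerLin k f).coeff n = (n : k) * f.coeff n := by simp [eulerLin]

theorem eulerLin_C_mul_T (a : k) (n : ℤ) : eulerLin k (C a * T n) = C ((n : k) * a) * T n := by
  classical
  ext m
  rw [eulerLin_coeff, ← single_eq_C_mul_T, ← single_eq_C_mul_T]
  simp only [AddMonoidAlgebra.coeff_single, Finsupp.single_apply]
  by_cases h : n = m <;> simp [h]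

noncomputable def euler : Derivation k k[T;T⁻¹] k[T;T⁻¹] :=
  Derivation.mk' (eulerLin k) fun f g => by
    induction f using LaurentPolynomial.induction_on' with
    | add f₁ f₂ h₁ h₂ =>
      simp only [add_mul, map_add, smul_eq_mul, mul_add] at h₁ h₂ ⊢
      rw [h₁, h₂]; ring
    | C_mul_T n a =>
      induction g using LaurentPolynomial.induction_on' with
      | add g₁ g₂ h₁ h₂ =>
        simp only [add_mul, map_add, smul_eq_mul, mul_add] at h₁ h₂ ⊢
        rw [h₁, h₂]; ring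
      | C_mul_T m b =>
        have e : C a * T n * (C b * T m) = C (a * b) * T (n + m) := by
          rw [map_mul, T_add]; ring
        rw [e, eulerLin_C_mul_T, eulerLin_C_mul_T, eulerLin_C_mul_T]
        simp only [smul_eq_mul, Int.cast_add, add_mul, map_add, map_mul, T_add]
        ring

theorem euler_apply (f : k[T;T⁻¹]) (n : ℤ) : (euler k f).coeff n = (n : k) * f.coeff n :=
  eulerLin_coeff k f n

/-- `T⁻¹ dT` -/
noncomputable def dlog : Ω[k[T;T⁻¹]⁄k] :=
  (T (-1) : k[T;T⁻¹]) • KaehlerDifferential.D k k[T;T⁻¹] (T 1)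

noncomputable def toFun : Ω[k[T;T⁻¹]⁄k] →ₗ[k[T;T⁻¹]] k[T;T⁻¹] :=
  (euler k).liftKaehlerDifferential

theorem toFun_D (f : k[T;T⁻¹]) :
    toFun k (KaehlerDifferential.D k _ f) = euler k f := Derivation.liftKaehlerDifferential_comp_D _ _

theorem toFun_dlog : toFun k (dlog k) = 1 := by
  have : euler k (T 1) = T 1 := by
    show eulerLin k (T 1) = _
    simpa using eulerLin_C_mul_T k 1 1
  rw [dlog, map_smul, toFun_D, this, smul_eq_mul, ← T_add]
  simp

theorem D_T (n : ℤ) :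
    KaehlerDifferential.D k k[T;T⁻¹] (T n) = ((n : k) • (T n : k[T;T⁻¹])) • dlog k := by
  set D := KaehlerDifferential.D k k[T;T⁻¹]
  have hsucc : ∀ m : ℤ, D (T (m + 1)) = T m • D (T 1) + T 1 • D (T m) := fun m => by
    rw [T_add, D.leibniz]
  have hT1 : D (T 1) = (T 1 : k[T;T⁻¹]) • dlog k := by
    rw [dlog, smul_smul, ← T_add]; simp [D]
  have key : ∀ m : ℤ, D (T (m + 1)) - ((((m + 1 : ℤ) : k) • (T (m + 1) : k[T;T⁻¹])) • dlog k) =
      (T 1 : k[T;T⁻¹]) • (D (T m) - ((m : k) • (T m : k[T;T⁻¹])) • dlog k) := fun m => by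
    rw [hsucc, hT1, smul_sub, smul_smul (T m), smul_smul (T 1), ← T_add, mul_smul_comm, ← T_add,
      Int.cast_add, Int.cast_one, add_smul, one_smul, add_smul, add_comm (1 : ℤ) m]
    abel
  induction n with
  | zero => simp [D]
  | succ m ih =>
    have := key m
    rwa [sub_eq_zero.mpr ih, smul_zero, sub_eq_zero] at this
  | pred m ih =>
    have h := key (-(m : ℤ) - 1)
    rw [sub_add_cancel, sub_eq_zero.mpr ih] at h
    exact sub_eq_zero.mp ((isUnit_T 1).smul_eq_zero.mp h.symm)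

theorem eq_smul_dlog (z : Ω[k[T;T⁻¹]⁄k]) : z = toFun k z • dlog k := by
  have hz : z ∈ Submodule.span k[T;T⁻¹] {dlog k} := by
    have : z ∈ Submodule.span k[T;T⁻¹] (Set.range (KaehlerDifferential.D k k[T;T⁻¹])) := by
      rw [KaehlerDifferential.span_range_derivation]; trivial
    refine Submodule.span_le.mpr ?_ this
    rintro _ ⟨f, rfl⟩
    induction f using LaurentPolynomial.induction_on' with
    | add f₁ f₂ h₁ h₂ => simp only [map_add, SetLike.mem_coe] at *; exact add_mem h₁ h₂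
    | C_mul_T n a =>
      rw [← smul_eq_C_mul, Derivation.map_smul, D_T, ← smul_assoc]
      exact Submodule.smul_mem _ _ (Submodule.mem_span_singleton_self _)
  obtain ⟨a, rfl⟩ := Submodule.mem_span_singleton.mp hz
  rw [map_smul, toFun_dlog, smul_eq_mul, mul_one]

theorem D_eq_zero_iff [CharZero k] (f : k[T;T⁻¹]) :
    KaehlerDifferential.D k k[T;T⁻¹] f = 0 ↔ f ∈ Set.range (algebraMap k k[T;T⁻¹]) := by
  classical
  constructor
  · intro h
    have h' : euler k f = 0 := by rw [← toFun_D, h, map_zero]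
    refine ⟨f.coeff 0, ?_⟩
    ext n
    rw [show algebraMap k k[T;T⁻¹] (f.coeff 0) = C (f.coeff 0) from rfl, ← single_eq_C]
    by_cases hn : n = 0
    · simp [hn]
    · have := euler_apply k f n
      rw [h'] at this
      simp [hn] at this ⊢
      rw [this]
  · rintro ⟨a, rfl⟩; exact Derivation.map_algebraMap _ _

variable {k}

theorem wedge_eq_zero {p : ℕ} (x : ↥(⋀[k[T;T⁻¹]]^(p + 2) (Ω[k[T;T⁻¹]⁄k]))) : x = 0 := by
  refine gen_induction (KaehlerDifferential.span_range_derivation k k[T;T⁻¹]) (P := fun x => x = 0)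
    rfl (fun x y a b => by rw [a, b, add_zero]) (fun b₀ b => ?_) x
  have : (fun i => KaehlerDifferential.D k k[T;T⁻¹] (b i)) = fun i =>
      toFun k (KaehlerDifferential.D k k[T;T⁻¹] (b i)) • dlog k :=
    funext fun i => eq_smul_dlog k _
  rw [DeRham.gen, this, AlternatingMap.map_smul_univ]
  rw [(ιMulti _ (p + 2)).map_eq_zero_of_eq (fun _ => dlog k) (i := 0) (j := 1) rfl (by simp),
    smul_zero, smul_zero]

theorem main [CharZero k]
    (d : ∀ p : ℕ, ↥(⋀[k[T;T⁻¹]]^p (Ω[k[T;T⁻¹]⁄k])) →ₗ[k] ↥(⋀[k[T;T⁻¹]]^(p + 1) (Ω[k[T;T⁻¹]⁄k])))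
    (hd : DeRham.IsDiff (KaehlerDifferential.D k k[T;T⁻¹]) d) :
    DeRham.cocycles d 1 = ⊤ ∧
    IsCompl (DeRham.coboundaries d 1)
      (Submodule.span k {DeRham.gen (KaehlerDifferential.D k k[T;T⁻¹]) 1 (T (-1)) (fun _ => T 1)}) ∧
    DeRham.gen (KaehlerDifferential.D k k[T;T⁻¹]) 1 (T (-1)) (fun _ => T 1) ∉
      DeRham.coboundaries d 1 ∧
    ∀ i : ℕ, DeRham.cocycles d (i + 2) ≤ DeRham.coboundaries d (i + 2) := by
  classical
  set ω := DeRham.gen (KaehlerDifferential.D k k[T;T⁻¹]) 1 (T (-1)) (fun _ => T 1) with hω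
  let e : ↥(⋀[k[T;T⁻¹]]^1 (Ω[k[T;T⁻¹]⁄k])) →ₗ[k[T;T⁻¹]] k[T;T⁻¹] :=
    toFun k ∘ₗ (oneEquiv k[T;T⁻¹] Ω[k[T;T⁻¹]⁄k]).toLinearMap
  have heinj : Function.Injective e := by
    intro x y h
    apply (oneEquiv k[T;T⁻¹] Ω[k[T;T⁻¹]⁄k]).injective
    rw [eq_smul_dlog k (oneEquiv _ _ x), eq_smul_dlog k (oneEquiv _ _ y)]
    simp only [e, LinearMap.comp_apply, LinearEquiv.coe_coe] at h
    rw [h]
  have heω : e ω = 1 := by
    simp only [e, hω, DeRham.gen, LinearMap.comp_apply, LinearEquiv.coe_coe, map_smul,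
      oneEquiv_ιMulti]
    rw [← map_smul]
    exact toFun_dlog k
  have hd0 : ∀ y, ∃ f, e (d 0 y) = euler k f ∧ ∀ g, e (d 0 (DeRham.gen
      (KaehlerDifferential.D k k[T;T⁻¹]) 0 g Fin.elim0)) = euler k g := by
    intro y
    have hg : ∀ g b, e (d 0 (DeRham.gen (KaehlerDifferential.D k k[T;T⁻¹]) 0 g b)) = euler k g := by
      intro g b
      rw [hd.1 0 g b]
      simp [e, toFun_D]
    refine gen_induction (KaehlerDifferential.span_range_derivation k k[T;T⁻¹]) (p := 0)
      (P := fun y => ∃ f, e (d 0 y) = euler k f ∧ _) ⟨0, by simp, fun g => hg g _⟩ ?_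
      (fun g b => ⟨g, hg g b, fun g => hg g _⟩) y
    rintro x z ⟨f, hf, hh⟩ ⟨f', hf', -⟩
    exact ⟨f + f', by simp [map_add, hf, hf'], hh⟩
  have hmem : ∀ x, x ∈ DeRham.coboundaries d 1 ↔ (e x).coeff 0 = 0 := by
    intro x
    constructor
    · rintro ⟨y, rfl⟩
      obtain ⟨f, hf, -⟩ := hd0 y
      rw [hf, euler_apply]; simp
    · intro hx
      let g : k[T;T⁻¹] := AddMonoidAlgebra.ofCoeff
        (Finsupp.onFinset (e x).coeff.support (fun n => (e x).coeff n / (n : k)) fun n hn => by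
          rw [Finsupp.mem_support_iff]; intro h; simp [h] at hn)
      obtain ⟨-, -, hg⟩ := hd0 0
      refine ⟨DeRham.gen (KaehlerDifferential.D k k[T;T⁻¹]) 0 g Fin.elim0, heinj ?_⟩
      rw [hg]
      ext n
      rw [euler_apply]
      by_cases hn : n = 0
      · simp [hn, hx]
      · simp only [g, AddMonoidAlgebra.coeff_ofCoeff, Finsupp.onFinset_apply]
        rw [mul_div_cancel₀ _ (Int.cast_ne_zero.mpr hn)]
  have hωn : ω ∉ DeRham.coboundaries d 1 := by
    rw [hmem, heω]; simp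
  refine ⟨?_, ?_, hωn, fun i x _ => (wedge_eq_zero x).symm ▸ zero_mem _⟩
  · ext x; simp [DeRham.cocycles, wedge_eq_zero (p := 0) (d 1 x)]
  · constructor
    · rw [Submodule.disjoint_def]
      intro x hx hx'
      obtain ⟨c, rfl⟩ := Submodule.mem_span_singleton.mp hx'
      by_contra hne
      have hc : c ≠ 0 := fun h => hne (by simp [h])
      exact hωn ((Submodule.smul_mem_iff _ hc).mp hx)
    · rw [codisjoint_iff, eq_top_iff]
      intro x _
      refine Submodule.mem_sup.mpr ⟨x - (e x).coeff 0 • ω, ?_, (e x).coeff 0 • ω,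
        Submodule.smul_mem _ _ (Submodule.mem_span_singleton_self _), sub_add_cancel _ _⟩
      rw [hmem, map_sub, LinearMap.map_smul_of_tower, heω]
      simp

end DeRhamBasic
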