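import Groth.Agent.DeRhamBasic.Gen
import Mathlib.RingTheory.Kaehler.Basic

universe u

open exteriorPower

namespace DeRhamBasic

variable (R S A B : Type u) [CommRing R] [CommRing S] [CommRing A] [CommRing B]
    [Algebra R S] [Algebra R A] [Algebra R B] [Algebra A B] [Algebra S B]
    [IsScalarTower R A B] [IsScalarTower R S B] [SMulCommClass S A B]

noncomputable def altB (p : ℕ) : Ω[B⁄S] [⋀^Fin p]→ₗ[A] ↥(⋀[B]^p Ω[B⁄S]) :=
  { (ιMulti B p (M := Ω[B⁄S])).toMultilinearMap.restrictScalars A with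
    map_eq_zero_of_eq' := fun v i j h hij => (ιMulti B p (M := Ω[B⁄S])).map_eq_zero_of_eq v h hij }

noncomputable def cxMap (p : ℕ) : ↥(⋀[A]^p (Ω[A⁄R])) →ₗ[A] ↥(⋀[B]^p (Ω[B⁄S])) :=
  alternatingMapLinearEquiv ((altB S A B p).compLinearMap (KaehlerDifferential.map R S A B))

theorem cxMap_isCxMap : DeRham.IsCxMap (KaehlerDifferential.D R A) (KaehlerDifferential.D S B)
    (algebraMap A B) (fun p => (cxMap R S A B p).toAddMonoidHom) := by
  intro p b₀ b
  simp only [LinearMap.toAddMonoidHom_coe, DeRham.gen, map_smul, cxMap,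
    alternatingMapLinearEquiv_apply_ιMulti, AlternatingMap.compLinearMap_apply]
  rw [algebraMap_smul]
  congr 1
  show ιMulti B p _ = _
  simp [Function.comp_def]

theorem isCxMap_unique {R' S' A' B' : Type u} [CommRing R'] [CommRing S'] [CommRing A'] [CommRing B']
    [Algebra R' A'] [Algebra S' B'] {g : A' →+* B'}
    {ψ φ : ∀ p : ℕ, ↥(⋀[A']^p (Ω[A'⁄R'])) →+ ↥(⋀[B']^p (Ω[B'⁄S']))}
    (hψ : DeRham.IsCxMap (KaehlerDifferential.D R' A') (KaehlerDifferential.D S' B') g ψ)
    (hφ : DeRham.IsCxMap (KaehlerDifferential.D R' A') (KaehlerDifferential.D S' B') g φ) (p : ℕ) :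
    ψ p = φ p :=
  DFunLike.coe_injective <| hom_ext (KaehlerDifferential.span_range_derivation R' A')
    (map_add _) (map_add _) fun b₀ b => (hψ p b₀ b).trans (hφ p b₀ b).symm

end DeRhamBasic
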