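import Mathlib.RingTheory.Kaehler.Basic
import Mathlib.RingTheory.MvPolynomial.Ideal
import Mathlib.Algebra.MvPolynomial.PDeriv
import Mathlib.RingTheory.Derivation.Basic
import Mathlib.Algebra.CharZero.Defs
import Mathlib.RingTheory.Ideal.Quotient.Operations
import Mathlib.LinearAlgebra.Prod
import Mathlib.Tactic.LinearCombination

universe u

open MvPolynomial

namespace DeRhamBasic

variable (k : Type u) [Field k]

local notation "P" => MvPolynomial (Fin 2) k
local notation "I" => Ideal.span {(MvPolynomial.X 0 * MvPolynomial.X 1 : MvPolynomial (Fin 2) k)}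
local notation "A" => MvPolynomial (Fin 2) k ⧸ Ideal.span {(MvPolynomial.X 0 * MvPolynomial.X 1 : MvPolynomial (Fin 2) k)}

theorem mem_node_iff (f : P) : f ∈ I ↔ ∀ m : Fin 2 →₀ ℕ, m ∈ f.support → 1 ≤ m 0 ∧ 1 ≤ m 1 := by
  have h1 : I = Ideal.span ((fun s => monomial s (1 : k)) ''
      {(Finsupp.single 0 1 + Finsupp.single 1 1 : Fin 2 →₀ ℕ)}) := by
    rw [Set.image_singleton]
    congr 2
    simp [X, monomial_mul]
  rw [h1, mem_ideal_span_monomial_image]
  refine forall₂_congr fun m _ => ?_
  simp only [Set.mem_singleton_iff, exists_eq_left]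
  constructor
  · intro h; exact ⟨by simpa using h 0, by simpa using h 1⟩
  · rintro ⟨a, b⟩ i; fin_cases i <;> simp [a, b]

/-- the Euler derivation in the `i`-th variable -/
noncomputable def euler2 (i : Fin 2) : Derivation k P P := (X i : P) • pderiv i

theorem euler2_coeff (i : Fin 2) (f : P) (m : Fin 2 →₀ ℕ) :
    coeff m (euler2 k i f) = (m i : k) * coeff m f := by
  classical
  induction f using MvPolynomial.induction_on' with
  | monomial n a =>
    simp only [euler2, Derivation.smul_apply, smul_eq_mul, pderiv_monomial]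
    by_cases hn : n i = 0
    · simp only [hn, Nat.cast_zero, mul_zero, monomial_zero, coeff_zero, coeff_monomial]
      by_cases h : n = m
      · subst h; simp [hn]
      · simp [h]
    · rw [X, monomial_mul, one_mul, add_tsub_cancel_of_le
        (Finsupp.single_le_iff.mpr (Nat.one_le_iff_ne_zero.mpr hn)), coeff_monomial, coeff_monomial]
      by_cases h : n = m
      · subst h; simp [mul_comm]
      · simp [h]
  | add a b ha hb => simp [map_add, ha, hb, mul_add]

theorem euler2_ker (i : Fin 2) (f : P) (hf : Ideal.Quotient.mkₐ k I f = 0) :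
    Ideal.Quotient.mkₐ k I (euler2 k i f) = 0 := by
  rw [Ideal.Quotient.mkₐ_eq_mk, Ideal.Quotient.eq_zero_iff_mem] at hf ⊢
  rw [mem_node_iff] at hf ⊢
  intro m hm
  refine hf m ?_
  rw [mem_support_iff] at hm ⊢
  rw [euler2_coeff] at hm
  exact right_ne_zero_of_mul hm

theorem node_D_eq_zero_iff [CharZero k] (a : A) :
    KaehlerDifferential.D k A a = 0 ↔ a ∈ Set.range (algebraMap k A) := by
  classical
  constructor
  · intro h
    obtain ⟨f, rfl⟩ := Ideal.Quotient.mk_surjective a
    refine ⟨coeff 0 f, ?_⟩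
    rw [← Ideal.Quotient.mk_algebraMap, Ideal.Quotient.eq, mem_node_iff]
    intro m hm
    have key : ∀ i, m i ≠ 0 → 1 ≤ m 0 ∧ 1 ≤ m 1 := by
      intro i hi
      let δ := Derivation.liftOfSurjective (f := Ideal.Quotient.mkₐ k I)
        Ideal.Quotient.mk_surjective (d := euler2 k i) (euler2_ker k i)
      have h2 : Ideal.Quotient.mkₐ k I (euler2 k i f) = 0 := by
        rw [← Derivation.liftOfSurjective_apply (f := Ideal.Quotient.mkₐ k I)
          Ideal.Quotient.mk_surjective (euler2_ker k i) f]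
        show δ (Ideal.Quotient.mk I f) = 0
        rw [← δ.liftKaehlerDifferential_comp_D, h, map_zero]
      rw [Ideal.Quotient.mkₐ_eq_mk, Ideal.Quotient.eq_zero_iff_mem, mem_node_iff] at h2
      refine h2 m ?_
      rw [mem_support_iff, euler2_coeff]
      rw [mem_support_iff, coeff_sub, MvPolynomial.algebraMap_eq, coeff_C] at hm
      refine mul_ne_zero (Nat.cast_ne_zero.mpr hi) ?_
      rw [if_neg] at hm
      · simpa using hm
      · intro h0; exact hi (by rw [← h0]; rfl)
    by_contra hc
    have h0 : m 0 = 0 := not_not.mp fun h => hc (key 0 h)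
    have h1 : m 1 = 0 := not_not.mp fun h => hc (key 1 h)
    have : m = 0 := by ext i; fin_cases i <;> simp [h0, h1]
    subst this
    simp at hm
  · rintro ⟨c, rfl⟩; exact Derivation.map_algebraMap _ _

/-- The gradient modulo `(y, x)`. -/
noncomputable def gradRel : Submodule A (A × A) :=
  Submodule.span A {(Ideal.Quotient.mk I (X 1), Ideal.Quotient.mk I (X 0))}

noncomputable def gradPoly : P →ₗ[k] (A × A) ⧸ gradRel k :=
  ((gradRel k).mkQ.restrictScalars k) ∘ₗ
    (((Ideal.Quotient.mkₐ k I).toLinearMap ∘ₗ (pderiv 0).toLinearMap).prod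
      ((Ideal.Quotient.mkₐ k I).toLinearMap ∘ₗ (pderiv 1).toLinearMap))

theorem gradPoly_apply (f : P) : gradPoly k f = Submodule.Quotient.mk
    (Ideal.Quotient.mk I (pderiv 0 f), Ideal.Quotient.mk I (pderiv 1 f)) := rfl

theorem gradPoly_mul (f g : P) : gradPoly k (f * g) =
    Ideal.Quotient.mk I f • gradPoly k g + Ideal.Quotient.mk I g • gradPoly k f := by
  simp only [gradPoly_apply, ← Submodule.Quotient.mk_smul, ← Submodule.Quotient.mk_add,
    Prod.smul_mk, Prod.mk_add_mk, smul_eq_mul, Derivation.leibniz, map_add, map_mul]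

theorem gradPoly_ker (f : P) (hf : f ∈ I) : gradPoly k f = 0 := by
  obtain ⟨g, rfl⟩ := Ideal.mem_span_singleton'.mp hf
  rw [gradPoly_mul]
  have h0 : Ideal.Quotient.mk I (X 0 * X 1 : P) = 0 :=
    Ideal.Quotient.eq_zero_iff_mem.mpr (Ideal.subset_span rfl)
  have h1 : gradPoly k (X 0 * X 1) = 0 := by
    rw [gradPoly_apply, Submodule.Quotient.mk_eq_zero]
    refine Submodule.subset_span ?_
    simp
  rw [h0, h1, smul_zero, zero_add]
  rw [gradPoly_apply, ← Submodule.Quotient.mk_smul]
  refine (Submodule.Quotient.mk_eq_zero _).mpr ?_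
  convert zero_mem (gradRel k) using 1
  exact Prod.ext (zero_mul _) (zero_mul _)

noncomputable def gradLin : A →ₗ[k] (A × A) ⧸ gradRel k :=
  Submodule.liftQ ((Ideal.span {(X 0 * X 1 : P)}).restrictScalars k) (gradPoly k)
      (fun f hf => gradPoly_ker k f hf) ∘ₗ
    (Submodule.Quotient.restrictScalarsEquiv k (Ideal.span {(X 0 * X 1 : P)})).symm.toLinearMap

theorem gradLin_mk (f : P) : gradLin k (Ideal.Quotient.mk I f) = gradPoly k f := by
  simp [gradLin]
  rfl

noncomputable def grad : Derivation k A ((A × A) ⧸ gradRel k) :=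
  Derivation.mk' (gradLin k) fun a b => by
    obtain ⟨f, rfl⟩ := Ideal.Quotient.mk_surjective a
    obtain ⟨g, rfl⟩ := Ideal.Quotient.mk_surjective b
    rw [← map_mul, gradLin_mk, gradLin_mk, gradLin_mk, gradPoly_mul]

theorem node_not_surjective :
    ¬ Function.Surjective (KaehlerDifferential.D k A) := by
  classical
  intro hsurj
  obtain ⟨a, ha⟩ := hsurj ((Ideal.Quotient.mk I (X 1)) • KaehlerDifferential.D k A
    (Ideal.Quotient.mk I (X 0)))
  obtain ⟨f, rfl⟩ := Ideal.Quotient.mk_surjective a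
  have h := congrArg (grad k).liftKaehlerDifferential ha
  rw [map_smul, Derivation.liftKaehlerDifferential_comp_D, Derivation.liftKaehlerDifferential_comp_D]
    at h
  change gradLin k _ = (_ : A) • gradLin k _ at h
  rw [gradLin_mk, gradLin_mk] at h
  replace h : (Ideal.Quotient.mk I (pderiv 0 f), Ideal.Quotient.mk I (pderiv 1 f)) -
      Ideal.Quotient.mk I (X 1) • (Ideal.Quotient.mk I (pderiv 0 (X 0 : P)),
        Ideal.Quotient.mk I (pderiv 1 (X 0 : P))) ∈ gradRel k :=
    (Submodule.Quotient.eq (gradRel k)).mp h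
  rw [pderiv_X_self, pderiv_X_of_ne (show (0 : Fin 2) ≠ 1 by decide), map_one, map_zero,
    Prod.smul_mk, smul_eq_mul, smul_eq_mul, mul_one, mul_zero, Prod.mk_sub_mk, gradRel,
    Submodule.mem_span_singleton] at h
  obtain ⟨q, hq⟩ := h
  obtain ⟨g, rfl⟩ := Ideal.Quotient.mk_surjective q
  simp only [Prod.smul_mk, smul_eq_mul, Prod.mk.injEq, sub_zero, ← map_mul, ← map_sub,
    Ideal.Quotient.eq] at hq
  obtain ⟨hq1, hq2⟩ := hq
  rw [mem_node_iff] at hq1 hq2
  let e1 : Fin 2 →₀ ℕ := Finsupp.single 1 1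
  let e0 : Fin 2 →₀ ℕ := Finsupp.single 0 1
  have c1 : coeff e1 (g * X 1 - (pderiv 0 f - X 1)) = 0 := by
    by_contra hne
    have := (hq1 e1 (mem_support_iff.mpr hne)).1
    simp [e1] at this
  have c2 : coeff e0 (g * X 0 - pderiv 1 f) = 0 := by
    by_contra hne
    have := (hq2 e0 (mem_support_iff.mpr hne)).2
    simp [e0] at this
  simp only [e1, e0, coeff_sub, coeff_mul_X', coeff_pderiv, coeff_X,
    Finsupp.mem_support_iff, Finsupp.single_eq_same, Finsupp.single_apply] at c1 c2
  have ec : (Finsupp.single 1 1 + Finsupp.single 0 1 : Fin 2 →₀ ℕ) =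
      Finsupp.single 0 1 + Finsupp.single 1 1 := add_comm _ _
  rw [ec] at c1
  simp at c1 c2
  have : (1 : k) = 0 := by linear_combination c1 - c2
  exact one_ne_zero this

end DeRhamBasic
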