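import Groth.Agent.DeRhamBasic.Gen
import Mathlib.RingTheory.Kaehler.Basic
import Mathlib.LinearAlgebra.ExteriorAlgebra.Grading

/-! The de Rham differential of a quotient receptacle. -/

set_option autoImplicit false
set_option linter.style.haveILetI false
universe u

open exteriorPower

namespace Groth.Agent.DeRhamQuot

section Kernel

variable {A M N : Type u} [CommRing A] [AddCommGroup M] [Module A M] [AddCommGroup N] [Module A N]
  (π : M →ₗ[A] N) {p : ℕ}

/-- wedges with a factor in the kernel -/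
def slotSet (p : ℕ) : Set ↥(⋀[A]^p M) := {z | ∃ f : Fin p → M, (∃ a, π (f a) = 0) ∧ z = ιMulti A p f}

theorem sub_mem (f g : Fin p → M) (h : ∀ a, π (f a) = π (g a)) :
    ιMulti A p f - ιMulti A p g ∈ Submodule.span A (slotSet π p) := by
  classical
  suffices H : ∀ s : Finset (Fin p), ιMulti A p (fun a => if a ∈ s then f a else g a) - ιMulti A p g ∈
        Submodule.span A (slotSet π p) by
    simpa using H Finset.univ
  intro s
  induction s using Finset.induction_on with
  | empty => simp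
  | insert c s hc ih =>
    let m := fun a => if a ∈ s then f a else g a
    have e1 : (fun a => if a ∈ insert c s then f a else g a) = Function.update m c (f c) := by
      funext a
      by_cases ha : a = c
      · subst ha; simp
      · simp [ha, m]
    have e2 : m = Function.update m c (g c) := by
      rw [show g c = m c by simp [m, hc], Function.update_eq_self]
    have hd : ιMulti A p (Function.update m c (f c - g c)) ∈ Submodule.span A (slotSet π p) :=
      Submodule.subset_span ⟨_, ⟨c, by simp [h c]⟩, rfl⟩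
    rw [AlternatingMap.map_update_sub, ← e1, ← e2] at hd
    simpa [m] using add_mem hd ih

theorem ker_map_le (hπ : Function.Surjective π) :
    LinearMap.ker (exteriorPower.map p π) ≤ Submodule.span A (slotSet π p) := by
  classical
  intro z hz
  let Q := (Submodule.span A (slotSet π p)).mkQ
  have wd : ∀ f g : Fin p → M, (∀ a, π (f a) = π (g a)) → Q (ιMulti A p f) = Q (ιMulti A p g) := fun f g h =>
    (Submodule.Quotient.eq _).2 (sub_mem π f g h)
  have wd1 : ∀ (v : Fin p → N) (c : Fin p) (x : M) a,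
      π (Function.update (fun a => Function.surjInv hπ (v a)) c x a) = Function.update v c (π x) a :=
    fun v c x a => by
      rw [Function.apply_update (fun _ => ⇑π)]
      simp [Function.surjInv_eq hπ]
  let Ψ : N [⋀^Fin p]→ₗ[A] (↥(⋀[A]^p M) ⧸ Submodule.span A (slotSet π p)) :=
    { MultilinearMap.mk' (fun v => Q (ιMulti A p fun a => Function.surjInv hπ (v a)))
        (fun v c x y => by
          rw [← map_add, wd _ (Function.update (fun a => Function.surjInv hπ (v a)) c
              (Function.surjInv hπ x + Function.surjInv hπ y)) fun a => ?_,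
            AlternatingMap.map_update_add]
          · simp only [map_add]
            congr 1 <;> exact wd _ _ fun a => by rw [wd1, Function.surjInv_eq hπ, Function.surjInv_eq hπ]
          · rw [wd1, Function.surjInv_eq hπ, map_add, Function.surjInv_eq hπ, Function.surjInv_eq hπ])
        (fun v c r x => by
          rw [← map_smul, wd _ (Function.update (fun a => Function.surjInv hπ (v a)) c
              (r • Function.surjInv hπ x)) fun a => ?_, AlternatingMap.map_update_smul]
          · simp only [map_smul]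
            congr 1
            exact wd _ _ fun a => by rw [wd1, Function.surjInv_eq hπ, Function.surjInv_eq hπ]
          · rw [wd1, Function.surjInv_eq hπ, map_smul, Function.surjInv_eq hπ]) with
      map_eq_zero_of_eq' := fun v i j h hij => by
        show Q (ιMulti A p fun a => Function.surjInv hπ (v a)) = 0
        rw [(ιMulti A p).map_eq_zero_of_eq (fun a => Function.surjInv hπ (v a))
          (congrArg (Function.surjInv hπ) h) hij, map_zero] }
  have h : alternatingMapLinearEquiv Ψ ∘ₗ exteriorPower.map p π = Q := by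
    refine exteriorPower.linearMap_ext (AlternatingMap.ext fun f => ?_)
    simp only [LinearMap.compAlternatingMap_apply, LinearMap.comp_apply, map_apply_ιMulti,
      alternatingMapLinearEquiv_apply_ιMulti]
    exact wd _ _ fun a => Function.surjInv_eq hπ _
  refine (Submodule.Quotient.mk_eq_zero _).1 ?_
  show Q z = 0
  rw [← h, LinearMap.comp_apply, LinearMap.mem_ker.1 hz, map_zero]

theorem coe_map (q : ℕ) (x : ↥(⋀[A]^q M)) :
    (exteriorPower.map q π x : ExteriorAlgebra A N) = ExteriorAlgebra.map π (x : ExteriorAlgebra A M) := by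
  have h : (⋀[A]^q N).subtype ∘ₗ exteriorPower.map q π =
      (ExteriorAlgebra.map π).toLinearMap ∘ₗ (⋀[A]^q M).subtype := by
    refine exteriorPower.linearMap_ext (AlternatingMap.ext fun f => ?_)
    simp [ExteriorAlgebra.ιMulti_apply, map_list_prod, List.map_ofFn, Function.comp_def]
  exact LinearMap.congr_fun h x

end Kernel

section Diff

variable {R A Ω' : Type u} [CommRing R] [CommRing A] [Algebra R A]
  [AddCommGroup Ω'] [Module A Ω'] [Module R Ω'] [IsScalarTower R A Ω']
  {π : Ω[A⁄R] →ₗ[A] Ω'} {dA : ∀ p : ℕ, ↥(⋀[A]^p (Ω[A⁄R])) →ₗ[R] ↥(⋀[A]^(p + 1) (Ω[A⁄R]))}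

local notation "δ" => KaehlerDifferential.D R A

theorem coe_gen (q : ℕ) (b₀ : A) (b : Fin q → A) :
    (DeRham.gen δ q b₀ b : ExteriorAlgebra A Ω[A⁄R]) = b₀ • ExteriorAlgebra.ιMulti A q fun i => δ (b i) := rfl

theorem coe_dA_gen (hdA : DeRham.IsRule δ dA) (q : ℕ) (b₀ : A) (b : Fin q → A) :
    (dA q (DeRham.gen δ q b₀ b) : ExteriorAlgebra A Ω[A⁄R]) =
      ExteriorAlgebra.ι A (δ b₀) * ExteriorAlgebra.ιMulti A q fun i => δ (b i) := by
  rw [hdA, exteriorPower.ιMulti_apply_coe, ExteriorAlgebra.ιMulti_succ_apply]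
  simp [Matrix.vecTail, Function.comp_def]

theorem coe_ιMulti_one (m : Fin 1 → Ω[A⁄R]) :
    (ExteriorAlgebra.ιMulti A 1 m : ExteriorAlgebra A Ω[A⁄R]) = ExteriorAlgebra.ι A (m 0) := by
  rw [ExteriorAlgebra.ιMulti_succ_apply, ExteriorAlgebra.ιMulti_zero_apply, mul_one]

theorem leibniz_one (hdA : DeRham.IsRule δ dA) (c : A) (x : ↥(⋀[A]^1 (Ω[A⁄R]))) :
    (dA 1 (c • x) : ExteriorAlgebra A Ω[A⁄R]) = ExteriorAlgebra.ι A (δ c) * (x : ExteriorAlgebra A Ω[A⁄R]) +
      c • (dA 1 x : ExteriorAlgebra A Ω[A⁄R]) := by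
  refine DeRhamBasic.gen_induction (KaehlerDifferential.span_range_derivation R A)
    (P := fun x => (dA 1 (c • x) : ExteriorAlgebra A Ω[A⁄R]) =
      ExteriorAlgebra.ι A (δ c) * (x : ExteriorAlgebra A Ω[A⁄R]) + c • (dA 1 x : ExteriorAlgebra A Ω[A⁄R]))
    (by simp) (fun x y hx hy => by
      simp only [smul_add, map_add, Submodule.coe_add, hx, hy, mul_add]; abel) (fun b₀ b => ?_) x
  rw [DeRhamBasic.smul_gen, coe_dA_gen hdA, coe_dA_gen hdA, coe_gen, Derivation.leibniz, map_add, map_smul, map_smul,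
    add_mul, smul_mul_assoc, smul_mul_assoc, mul_smul_comm]
  abel

theorem dA_mul_mem (hdA : DeRham.IsRule δ dA) (q : ℕ) (b : Fin q → A) (x : ↥(⋀[A]^1 (Ω[A⁄R])))
    (y : ↥(⋀[A]^(q + 1) (Ω[A⁄R])))
    (hy : (y : ExteriorAlgebra A Ω[A⁄R]) = (x : ExteriorAlgebra A Ω[A⁄R]) *
      ExteriorAlgebra.ιMulti A q fun i => δ (b i)) :
    (dA (q + 1) y : ExteriorAlgebra A Ω[A⁄R]) = (dA 1 x : ExteriorAlgebra A Ω[A⁄R]) *
      ExteriorAlgebra.ιMulti A q fun i => δ (b i) := by
  let E := ExteriorAlgebra.ιMulti A q fun i => δ (b i)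
  have hmem : ∀ z : ↥(⋀[A]^1 (Ω[A⁄R])), (z : ExteriorAlgebra A Ω[A⁄R]) * E ∈ ⋀[A]^(q + 1) (Ω[A⁄R]) := fun z => by
    rw [show q + 1 = 1 + q from add_comm q 1]
    exact SetLike.mul_mem_graded z.2 (exteriorPower.ιMulti A q fun i => δ (b i)).2
  let Y : ↥(⋀[A]^1 (Ω[A⁄R])) → ↥(⋀[A]^(q + 1) (Ω[A⁄R])) := fun z => ⟨_, hmem z⟩
  obtain rfl : y = Y x := Subtype.ext hy
  refine DeRhamBasic.gen_induction (KaehlerDifferential.span_range_derivation R A)
    (P := fun x => (dA (q + 1) (Y x) : ExteriorAlgebra A Ω[A⁄R]) = (dA 1 x : ExteriorAlgebra A Ω[A⁄R]) * E)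
    ?_ (fun u v hu hv => ?_) (fun b₀ b₁ => ?_) x
  · rw [show Y 0 = 0 from Subtype.ext (zero_mul _)]; simp
  · rw [show Y (u + v) = Y u + Y v from Subtype.ext (add_mul _ _ _), map_add, map_add, Submodule.coe_add,
      Submodule.coe_add, add_mul, hu, hv]
  · have hc : (fun i => δ ((Fin.cons (b₁ 0) b : Fin (q + 1) → A) i)) = Fin.cons (δ (b₁ 0)) fun i => δ (b i) := by
      rw [DeRhamBasic.cons_eq]
    have e : Y (DeRham.gen δ 1 b₀ b₁) = DeRham.gen δ (q + 1) b₀ (Fin.cons (b₁ 0) b) := Subtype.ext (by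
      show (DeRham.gen δ 1 b₀ b₁ : ExteriorAlgebra A Ω[A⁄R]) * E = _
      rw [coe_gen, coe_gen, coe_ιMulti_one, smul_mul_assoc, hc, ExteriorAlgebra.ιMulti_succ_apply]
      simp [Matrix.vecTail, Function.comp_def, E])
    rw [e, coe_dA_gen hdA, coe_dA_gen hdA, hc, coe_ιMulti_one,
      ExteriorAlgebra.ιMulti_succ_apply (v := (Fin.cons (δ (b₁ 0)) fun i => δ (b i) : Fin (q + 1) → Ω[A⁄R]))]
    simp [Matrix.vecTail, Function.comp_def, E, mul_assoc]

variable (hdA : DeRham.IsRule (KaehlerDifferential.D R A) dA) (hker : LinearMap.ker π ≤ Submodule.span A {ω : Ω[A⁄R] | π ω = 0 ∧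
      exteriorPower.map 2 π (dA 1 ((exteriorPower.oneEquiv A (Ω[A⁄R])).symm ω)) = 0})

theorem coe_oneEquiv_symm (ω : Ω[A⁄R]) :
    ((exteriorPower.oneEquiv A (Ω[A⁄R])).symm ω : ExteriorAlgebra A Ω[A⁄R]) = ExteriorAlgebra.ι A ω := by
  obtain ⟨x, rfl⟩ := (exteriorPower.oneEquiv A (Ω[A⁄R])).surjective ω
  rw [LinearEquiv.symm_apply_apply]
  have h : (⋀[A]^1 Ω[A⁄R]).subtype = (ExteriorAlgebra.ι A) ∘ₗ (exteriorPower.oneEquiv A (Ω[A⁄R])).toLinearMap := by
    refine exteriorPower.linearMap_ext (AlternatingMap.ext fun f => ?_)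
    simp only [LinearMap.compAlternatingMap_apply, LinearMap.comp_apply, LinearEquiv.coe_coe, oneEquiv_ιMulti]
    exact coe_ιMulti_one f
  exact LinearMap.congr_fun h x

omit [Module R Ω'] [IsScalarTower R A Ω'] in
include hdA hker in
theorem map_dA_eq_zero (q : ℕ) (η : ↥(⋀[A]^q (Ω[A⁄R]))) : ∀ (ω : Ω[A⁄R]), π ω = 0 →
    ∀ y : ↥(⋀[A]^(q + 1) (Ω[A⁄R])), (y : ExteriorAlgebra A Ω[A⁄R]) = ExteriorAlgebra.ι A ω * η →
      exteriorPower.map (q + 1 + 1) π (dA (q + 1) y) = 0 := by
  have hmem : ∀ (ω : Ω[A⁄R]) (z : ↥(⋀[A]^q (Ω[A⁄R]))),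
      ExteriorAlgebra.ι A ω * (z : ExteriorAlgebra A Ω[A⁄R]) ∈ ⋀[A]^(q + 1) (Ω[A⁄R]) := fun ω z => by
    rw [show q + 1 = 1 + q from add_comm q 1, ← coe_oneEquiv_symm ω]
    exact SetLike.mul_mem_graded ((exteriorPower.oneEquiv A _).symm ω).2 z.2
  intro ω hω y hy
  obtain rfl : y = ⟨_, hmem ω η⟩ := Subtype.ext hy
  clear hy
  revert ω
  refine DeRhamBasic.gen_induction (KaehlerDifferential.span_range_derivation R A)
    (P := fun η => ∀ ω, π ω = 0 →
      exteriorPower.map (q + 1 + 1) π (dA (q + 1) ⟨_, hmem ω η⟩) = 0) ?_ (fun u v hu hv => ?_)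
    (fun b₀ b => ?_) η
  · intro ω _
    rw [show (⟨_, hmem ω 0⟩ : ↥(⋀[A]^(q + 1) (Ω[A⁄R]))) = 0 from Subtype.ext (mul_zero _), map_zero, map_zero]
  · intro ω hω
    rw [show (⟨_, hmem ω (u + v)⟩ : ↥(⋀[A]^(q + 1) (Ω[A⁄R]))) = ⟨_, hmem ω u⟩ + ⟨_, hmem ω v⟩ from
      Subtype.ext (mul_add _ _ _), map_add, map_add, hu ω hω, hv ω hω, add_zero]
  · intro ω hω
    let e1 := (exteriorPower.oneEquiv A (Ω[A⁄R])).symm
    have key : ∀ ω ∈ LinearMap.ker π, ∀ c : A,
        ExteriorAlgebra.map π (dA 1 (c • e1 ω) : ExteriorAlgebra A Ω[A⁄R]) = 0 := by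
      intro ω hω
      replace hω := hker hω
      induction hω using Submodule.span_induction with
      | mem x hx =>
        intro c
        rw [leibniz_one hdA, map_add, map_mul, map_smul, ← coe_map π 2, hx.2, coe_oneEquiv_symm,
          ExteriorAlgebra.map_apply_ι, ExteriorAlgebra.map_apply_ι, hx.1]
        simp
      | zero => intro c; simp
      | add a b _ _ ha hb => intro c; rw [map_add, smul_add, map_add, Submodule.coe_add, map_add, ha, hb, add_zero]
      | smul r a _ ha => intro c; rw [show e1 (r • a) = r • e1 a from map_smul _ _ _, smul_smul]; exact ha _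
    apply Subtype.ext
    rw [coe_map, dA_mul_mem hdA q b (b₀ • e1 ω) _ ?_, map_mul, key ω hω b₀, zero_mul]
    · rfl
    · show ExteriorAlgebra.ι A ω * (DeRham.gen δ q b₀ b : ExteriorAlgebra A Ω[A⁄R]) = _
      rw [coe_gen, Submodule.coe_smul, coe_oneEquiv_symm, mul_smul_comm, smul_mul_assoc]

include hdA hker in
theorem exists_diff (hπ : Function.Surjective π) :
    ∃ d : ∀ p : ℕ, ↥(⋀[A]^p Ω') →ₗ[R] ↥(⋀[A]^(p + 1) Ω'),
      DeRham.IsDiff (π.compDer (KaehlerDifferential.D R A)) d ∧
        ∀ (p : ℕ) (x : ↥(⋀[A]^p (Ω[A⁄R]))),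
          d p (exteriorPower.map p π x) = exteriorPower.map (p + 1) π (dA p x) := by
  let G : ∀ p, ↥(⋀[A]^p (Ω[A⁄R])) →ₗ[R] ↥(⋀[A]^(p + 1) Ω') := fun p =>
    (exteriorPower.map (p + 1) π).restrictScalars R ∘ₗ dA p
  have hG : ∀ p, LinearMap.ker ((exteriorPower.map p π).restrictScalars R) ≤ LinearMap.ker (G p) := by
    intro p z hz
    have hz' := ker_map_le π (p := p) hπ (x := z) hz
    rw [LinearMap.mem_ker]
    suffices h : ∀ c : A, G p (c • z) = 0 by simpa using h 1
    clear hz
    induction hz' using Submodule.span_induction with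
    | mem x hx =>
      obtain ⟨f, ⟨a, ha⟩, rfl⟩ := hx
      intro c
      cases p with
      | zero => exact a.elim0
      | succ q =>
        have h0 : ∀ g : Fin (q + 1) → Ω[A⁄R], π (g 0) = 0 → G (q + 1) (c • ιMulti A (q + 1) g) = 0 := fun g hg =>
          map_dA_eq_zero hdA hker q (c • ιMulti A q (Matrix.vecTail g)) (g 0) hg _ (by
            rw [Submodule.coe_smul, Submodule.coe_smul, exteriorPower.ιMulti_apply_coe,
              exteriorPower.ιMulti_apply_coe, ExteriorAlgebra.ιMulti_succ_apply, mul_smul_comm])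
        by_cases ha0 : a = 0
        · exact h0 f (ha0 ▸ ha)
        · have h1 := h0 (f ∘ Equiv.swap 0 a) (by simpa using ha)
          rw [AlternatingMap.map_swap _ _ (Ne.symm ha0), smul_neg, map_neg, neg_eq_zero] at h1
          exact h1
    | zero => intro c; simp
    | add a b _ _ ha hb => intro c; rw [smul_add, map_add, ha, hb, add_zero]
    | smul r a _ ha => intro c; rw [smul_smul]; exact ha _
  have hsurj : ∀ p, Function.Surjective ((exteriorPower.map p π).restrictScalars R) := fun p =>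
    exteriorPower.map_surjective hπ
  let d : ∀ p, ↥(⋀[A]^p Ω') →ₗ[R] ↥(⋀[A]^(p + 1) Ω') := fun p =>
    (Submodule.liftQ _ (G p) (hG p)) ∘ₗ
      (LinearMap.quotKerEquivOfSurjective _ (hsurj p)).symm.toLinearMap
  have hd : ∀ p x, d p (exteriorPower.map p π x) = exteriorPower.map (p + 1) π (dA p x) := fun p x => by
    have : (LinearMap.quotKerEquivOfSurjective _ (hsurj p)).symm (exteriorPower.map p π x) =
        Submodule.Quotient.mk x := by
      rw [LinearEquiv.symm_apply_eq]; rfl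
    simp only [d, LinearMap.comp_apply, LinearEquiv.coe_coe, this]
    rfl
  refine ⟨d, DeRhamBasic.isDiff_of_isRule ?_ (fun p b₀ b => ?_), hd⟩
  · rw [show Set.range (π.compDer δ) = π '' Set.range δ by rw [← Set.range_comp]; rfl,
      Submodule.span_image, KaehlerDifferential.span_range_derivation, Submodule.map_top,
      LinearMap.range_eq_top.2 hπ]
  · have e : DeRham.gen (π.compDer δ) p b₀ b = exteriorPower.map p π (DeRham.gen δ p b₀ b) := by
      simp only [DeRham.gen, map_smul, map_apply_ιMulti]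
      rfl
    rw [e, hd, hdA, map_apply_ιMulti]
    congr 1
    funext i
    refine Fin.cases ?_ (fun j => ?_) i <;> simp

end Diff

end Groth.Agent.DeRhamQuot
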